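import Cfsg.Agent.GF.Def

/-! # One local subgroup: the lemmas `cen`, `gen`, `lc2`, `rule`, `loc` from `nK` and `pr` -/

set_option autoImplicit false
set_option linter.unusedVariables false
set_option linter.unusedSectionVars false

namespace Cfsg.Agent.GF
open Cfsg Cfsg.Agent.BG Subgroup PHom
open Cfsg.Agent.Comp (QS CompIn Fit Lay SubIn)
open Cfsg.Agent.S3F (SCl NC NC_le NC_le' NC_norm le_NC cj_le_NC)

universe u

variable {G : Type u} [Group G] [Finite G]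
  {A B D H I K L M P Q R S T U V W X Y Z : Subgroup G} {a b c d g s t x y z : G} {n : ℕ}

/-- the core-free configuration -/
structure Lq (A H : Subgroup G) : Prop where
  O : O[{2}ᶜ](H) = ⊥
  ab : Abelem 2 A
  le : A ≤ H
  sc : SCl H A
  nK : ∀ L, CompIn L H → NC H A ≤ N[L]
  sp : ∀ L, CompIn L H → A ≤ A ⊓ C[L] ⊔ A ⊓ L

theorem comp_cent (hL : CompIn L H) (h1 : L ≤ K) (h2 : K ≤ H) : O[{2}ᶜ](K) ≤ C[L] :=
  have k := hL.restrict h1 h2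
  comm_eq_bot'.1 (k.comm_of_solvable (O_le _ _) (H8.sol_of_odd (O_pig _ _)) (k.le.trans (O_norm _ _)))

namespace Lq
variable (h : Lq A H)
include h

theorem pA : PiG {2} A := h.ab.pig Nat.prime_two
theorem KH : NC H A ≤ H := NC_le' h.le (normG H)

theorem cF (h1 : X ≤ H) (h2 : ∀ L, CompIn L H → X ≤ C[L]) (h3 : X ≤ C[O[{2}](H)]) : X ≤ O[{2}](H) := by
  have f : Fit H ≤ O[{2}](H) := (le_F Comp.Fit_le (Comp.Fit_normal H) (Comp.Fit_nilpotent H)).trans (F_eq_O h.O).le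
  exact (le_inf h1 (centY (cent_symm (Comp.Lay_le_iff.2 fun L hL => cent_symm (h2 L hL))) (h3.trans (centS f)))).trans
    ((Comp.centralizer_FStar_le_Fit H).trans f)

theorem odd (h1 : X ≤ H) (o : PiG {2}ᶜ X) (h2 : ∀ L, CompIn L H → X ≤ C[L]) (h3 : X ≤ C[O[{2}](H)]) : X = ⊥ :=
  ((O_pig _ _).of_le (h.cF h1 h2 h3)).eq_bot o

theorem syl : ∃ R, Syl 2 R H ∧ A ≤ R ∧ H ⊓ N[R] ≤ N[A] := by
  obtain ⟨R, a, b⟩ := syl_superset Nat.prime_two h.le h.pA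
  exact ⟨R, a, b, h.sc.norm a.le a.pi b⟩

theorem n0 : H ≤ N[A ⊓ O[{2}](H)] := by
  obtain ⟨R, s, l, -⟩ := h.syl
  have nO := O_norm {2} H
  exact fun g hg => mem_N_of fun v hv =>
    ⟨h.sc R s.le s.pi l v hv.1 g hg (s.O_le (conj_mem (nO hg) hv.2)), conj_mem (nO hg) hv.2⟩

theorem k4 : NC H A ≤ C[A ⊓ O[{2}](H)] := NC_le' (h.ab.abel.trans (centS inf_le_left)) (normC h.n0)

theorem k5 (h1 : X ≤ NC H A) (o : PiG {2}ᶜ X) : X ≤ C[O[{2}](H)] := by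
  obtain ⟨R, s, l, nR⟩ := h.syl
  have nO := O_norm {2} H
  have n0 := h.n0
  have KH := h.KH
  have k3 : ⁅O[{2}](H), NC H A⁆ ≤ A ⊓ O[{2}](H) := by
    rw [← quo_cent_iff ((O_le _ _).trans n0) (KH.trans n0), centC, ← le_pre_iff (φ := quo _) (KH.trans n0)]
    refine NC_le' ?_ (norm_pre (φ := quo _) n0 (normC (im_norm nO)))
    rw [le_pre_iff (φ := quo _) (h.le.trans n0), centC, quo_cent_iff ((O_le _ _).trans n0) (h.le.trans n0)]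
    exact le_inf (commR ((le_inf (O_le _ _) (normsG s.O_le)).trans nR)) (commL (h.le.trans nO))
  exact cent_symm (cop_stable (o.coprime' ((O_pig _ _).of_le inf_le_right)) ((commS le_rfl h1).trans k3)
    (cent_symm (h1.trans h.k4)))

theorem mem0 (h1 : U ≤ A) (h2 : ∀ L, CompIn L H → U ≤ C[L]) : U ≤ A ⊓ O[{2}](H) := by
  have n : H ≤ N[NC H A ⊓ C[Lay H]] := normI NC_norm (normC (Comp.Lay_normal H))
  refine le_inf h1 ((le_inf (h1.trans le_NC) (cent_symm (Comp.Lay_le_iff.2 fun L hL => cent_symm (h2 L hL)))).trans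
    (le_O (inf_le_left.trans h.KH) n (pig_of_elts fun x hx => ?_)))
  have b := zpowers_le.2 (cst_mem_of (π := {2}ᶜ) hx)
  have o := pig_zpowers.2 (cst_pie {2}ᶜ x)
  have := zpowers_eq_bot.1 (h.odd (b.trans (inf_le_left.trans h.KH)) o
    (fun L hL => b.trans (inf_le_right.trans (centS hL.le_Lay))) (h.k5 (b.trans inf_le_left) o))
  rw [cst_eq_one_iff, compl_compl] at this
  exact this

theorem dec (h1 : A ⊓ O[{2}](H) ≤ U) (h2 : ∀ L, CompIn L H → ¬ A ≤ C[L] → A ⊓ L ≤ U) : A ≤ U := by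
  obtain ⟨J, -, ⟨j1, j2, j3⟩, m⟩ := exists_maximal (A := ⊥)
    (P := fun J => J ≤ Lay H ∧ Lay H ≤ N[J] ∧ A ≤ U ⊔ A ⊓ C[J])
    ⟨bot_le, norm_bot _, by rw [C_bot, inf_top_eq]; exact le_sup_right⟩
  have k2 : Lay H ≤ J := Comp.Lay_le_iff.2 fun L hL => by
    refine (hL.le_or_comm ((SubIn.of_normal j1 j2).trans (Comp.Lay_subIn H))).elim id fun c => ?_
    refine le_sup_right.trans (m (J ⊔ L) ⟨sup_le j1 hL.le_Lay, normY j2 hL.Lay_normalizes,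
      j3.trans (sup_le le_sup_left fun y hy => ?_)⟩ le_sup_left).le
    by_cases e : A ≤ C[L]
    · exact mem_sup_right ⟨hy.1, (C_sup _ _).ge ⟨hy.2, e hy.1⟩⟩
    obtain ⟨p, hp, q, hq, rfl⟩ := (mem_sup_l (inf_le_left.trans (abel_norm h.ab.abel inf_le_left))).1 (h.sp L hL hy.1)
    exact mul_mem (mem_sup_right ⟨hp.1, (C_sup _ _).ge ⟨by
      simpa using mul_mem (mem_inf.1 hy).2 (inv_mem (comm_eq_bot'.1 c hq.2)), hp.2⟩⟩) (mem_sup_left (h2 L hL e hq))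
  exact j3.trans (sup_le le_rfl ((h.mem0 inf_le_left fun L hL => inf_le_right.trans (centS (hL.le_Lay.trans k2))).trans h1))

theorem gen (h2 : H ⊓ N[A] ≤ M) (h3 : ∀ L, CompIn L H → ¬ A ≤ C[L] → L ≤ M) : H ≤ M := by
  obtain ⟨R, s, l, -⟩ := h.syl
  have s1 := s.inf_norm' Comp.Lay_le (Comp.Lay_normal H)
  refine (Syl.frattini s1 Nat.prime_two Comp.Lay_le (Comp.Lay_normal H)).sup.ge.trans (sup_le
    (Comp.Lay_le_iff.2 fun L hL => (em _).elim (fun e => (le_inf hL.le (cents_norm (cent_symm e))).trans h2) (h3 L hL))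
    ((le_inf inf_le_left ?_).trans h2))
  rw [le_antisymm (h.dec le_sup_left fun L hL _ => (inf_le_inf_left _ hL.le_Lay).trans le_sup_right)
    (sup_le inf_le_left inf_le_left : A ⊓ O[{2}](H) ⊔ A ⊓ Lay H ≤ A)]
  exact normY (inf_le_left.trans h.n0) fun g hg => mem_N_of fun v hv =>
    have k := conj_mem hg.2 (mem_inf.2 ⟨l hv.1, hv.2⟩)
    ⟨h.sc R s.le s.pi l v hv.1 g hg.1 k.1, k.2⟩

theorem cA (h1 : Y ≤ H) (h2 : PiG {2}ᶜ Y) (h3 : A ≤ N[Y]) (h5 : ∀ L, CompIn L H → ¬ A ≤ C[L] → Y ≤ C[L]) :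
    A ≤ C[Y] :=
  h.dec (cent_of_norm_inf (inf_le_left.trans h3) (h1.trans h.n0) ((h.pA.of_le inf_le_left).inf_bot h2))
    fun L hL e => inf_le_right.trans (cent_symm (h5 L hL e))

theorem lc2 (h4 : Y ≤ O[{2}ᶜ](H ⊓ C[A])) (h5 : ∀ L, CompIn L H → ¬ A ≤ C[L] → Y ≤ C[L]) : Y = ⊥ := by
  have o := (O_pig _ _).of_le h4
  have l := h4.trans (O_le _ _)
  have n := h.le.trans (O_norm {2} H)
  refine h.odd (l.trans inf_le_left) o (fun L hL => (em _).elim (fun e => h4.trans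
    (comp_cent hL (le_inf hL.le (cent_symm e)) inf_le_left)) (h5 L hL)) ?_
  refine pq_lemma ((O_pig {2} H).sup_l h.pA n).nil le_sup_right le_sup_left (cent_symm (l.trans inf_le_right))
    (o.coprime' (O_pig _ _)) n (l.trans (inf_le_left.trans (O_norm _ _)))
    ((?_ : _ ≤ O[{2}](H ⊓ C[A])).trans ((O_cent_O _ _).trans (centS h4)))
  exact (le_inf inf_le_left (inf_le_inf_right _ (O_le _ _))).trans (O_inf_le _ inf_le_left)

theorem nY (hL : CompIn L H) (h0 : ¬ A ≤ C[L]) (h1 : Y ≤ H) (h2 : PiG {2}ᶜ Y) (h3 : A ≤ N[Y]) : Y ≤ N[L] := by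
  obtain ⟨d, d1, d2⟩ := SetLike.not_le_iff_exists.1 (fun e : A ⊓ L ≤ C[L] => h0 ((h.sp L hL).trans
    (sup_le inf_le_right e)))
  exact (cop_cent_prod h3 (h.pA.coprime h2) (.inl h.pA.sol)).sup.ge.trans (sup_le (((commS le_rfl le_NC).trans
    (commR (h1.trans NC_norm))).trans (h.nK L hL)) fun y hy => S3F.norm_of_cent hL (h1 hy.1) d1.2 d2 (C_le_C1 d1.1 hy.2))

theorem loc (h1 : Y ≤ H) (h2 : PiG {2}ᶜ Y) (h3 : A ≤ N[Y]) (hU : U ≤ A) (hW : W ≤ A)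
    (h4 : ∀ L, CompIn L H → U ≤ C[L] ∨ W ≤ C[L]) : ⁅⁅Y, U⁆, W⁆ = ⊥ := by
  have l1 : ⁅Y, U⁆ ≤ NC H A := (commS le_rfl (hU.trans le_NC)).trans (commR (h1.trans NC_norm))
  have l2 : ⁅⁅Y, U⁆, W⁆ ≤ ⁅Y, U⁆ := commL (hW.trans (normR h3 (abel_norm h.ab.abel hU)))
  have o := h2.of_le (l2.trans (commL (hU.trans h3)))
  refine h.odd (l2.trans (l1.trans h.KH)) o (fun L hL => ?_) (h.k5 (l2.trans l1) o)
  by_cases e : W ≤ C[L]
  · exact (commS le_rfl e).trans (commR (normC (l1.trans (h.nK L hL))))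
  · exact l2.trans ((commS le_rfl ((h4 L hL).resolve_right e)).trans
      (commR (normC (h.nY hL (fun c => e (hW.trans c)) h1 h2 h3))))

end Lq

theorem cp_pre {L' : Subgroup (Quo O[{2}ᶜ](H))} (hL : CompIn L' (H ÷ O[{2}ᶜ](H))) :
    ∃ L, Cp H L ∧ L ÷ O[{2}ᶜ](H) = L' := by
  obtain ⟨L, a, b, rfl⟩ := exists_quo_eq (O_norm _ H) (O_le _ H) hL.le
  exact ⟨L, ⟨a, b, hL⟩, rfl⟩

theorem Cp.cent_iff (h : Cp H L) (l : X ≤ H) : X ÷ O[{2}ᶜ](H) ≤ C[L ÷ O[{2}ᶜ](H)] ↔ ⁅L, X⁆ ≤ O[{2}ᶜ](H) := by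
  rw [centC, quo_cent_iff (h.le.trans (O_norm _ _)) (l.trans (O_norm _ _))]

theorem quo_NC (h : H ≤ N[K]) (l : A ≤ H) : NC H A ÷ K = NC (H ÷ K) (A ÷ K) :=
  le_antisymm ((le_pre_iff (φ := quo K) ((NC_le' l (normG H)).trans h)).1 (NC_le' ((le_pre_iff (φ := quo K)
    (l.trans h)).2 le_NC) (norm_pre (φ := quo K) h NC_norm))) (NC_le' (im_mono le_NC) (im_norm NC_norm))

namespace Lx
variable (h : Lx.{u} n A H) (k : ∀ L, Cp H L → NC H A ≤ N[L])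
  (p : ∀ L, Cp H L → ¬ ⁅L, A⁆ ≤ O[{2}ᶜ](H) → ∃ B D X, Pr A H L B D X)
include h k p

theorem lq : Lq (A ÷ O[{2}ᶜ](H)) (H ÷ O[{2}ᶜ](H)) where
  O := O_quo_O _ _
  ab := h.ab.im _
  le := im_mono h.le
  sc := h.sc.im (O_norm _ _) h.le (h.ab.pig Nat.prime_two)
  nK := fun L' hL => by
    obtain ⟨L, c, rfl⟩ := cp_pre hL
    exact quo_NC (O_norm _ H) h.le ▸ im_norm (k L c)
  sp := fun L' hL => by
    obtain ⟨L, c, rfl⟩ := cp_pre hL
    by_cases e : ⁅L, A⁆ ≤ O[{2}ᶜ](H)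
    · exact (le_inf le_rfl ((c.cent_iff h.le).2 e)).trans le_sup_left
    obtain ⟨B, D, X, q⟩ := p L c e
    have b : B ≤ A := q.sup ▸ le_sup_left
    have d : D ≤ A := q.sup ▸ le_sup_right
    have n := h.le.trans (O_norm {2}ᶜ H)
    nth_rewrite 1 [← q.sup]
    rw [im_sup (b.trans n) (d.trans n)]
    exact sup_le_sup (le_inf (im_mono b) ((c.cent_iff (b.trans h.le)).2 (comm_le_iff.2 fun x hx y hy =>
      ((q.memB y).1 hy).2 (comm_mem hx (mem_zpowers y))))) (le_inf (im_mono d) (im_mono (q.eqD ▸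
        (commS le_rfl q.XL).trans (commR (le_NC.trans (k L c))))))

theorem cen' (hd : d ∈ A) (h1 : ∀ L, Cp H L → ⁅L, zpowers d⁆ ≤ O[{2}ᶜ](H)) :
    ⁅NC H A, zpowers d⁆ ≤ O[{2}ᶜ](H) := by
  have l := zpowers_le.2 hd
  rw [← quo_cent_iff ((NC_le' h.le (normG H)).trans (O_norm _ _)) ((l.trans h.le).trans (O_norm _ _)),
    quo_NC (O_norm _ H) h.le]
  refine (h.lq k p).k4.trans (centS ((h.lq k p).mem0 (im_mono l) fun L' hL => ?_))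
  obtain ⟨L, c, rfl⟩ := cp_pre hL
  exact (c.cent_iff (l.trans h.le)).2 (h1 L c)

theorem gen' (h1 : O[{2}ᶜ](H) ≤ M) (h2 : H ⊓ N[A] ≤ M) (h3 : ∀ L, Cp H L → ¬ ⁅L, A⁆ ≤ O[{2}ᶜ](H) → L ≤ M) :
    H ≤ M := by
  have n := O_norm {2}ᶜ H
  have pA := h.ab.pig Nat.prime_two
  refine ((quo_le_iff n (inf_le_left.trans n)).1 ((h.lq k p).gen (M := (H ⊓ M) ÷ O[{2}ᶜ](H)) ?_ fun L' hL e => ?_)).trans
    (sup_le inf_le_right h1)
  · rw [← im_IN_cop (h.le.trans n) n ((quo_ker _).le.trans (O_le _ _)) (by rw [quo_ker]; exact pA.coprime (O_pig _ _))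
      (.inl pA.sol)]
    exact im_mono (le_inf inf_le_left h2)
  · obtain ⟨L, c, rfl⟩ := cp_pre hL
    exact im_mono (le_inf c.le (h3 L c (mt (c.cent_iff h.le).2 e)))

theorem lc2' (h1 : Y ≤ H) (h2 : PiG {2}ᶜ Y) (h3 : A ≤ N[Y]) (h4 : Y ⊓ C[A] ≤ O[{2}ᶜ](C[A] ⊓ H))
    (h5 : ∀ L, Cp H L → ¬ ⁅L, A⁆ ≤ O[{2}ᶜ](H) → ⁅Y, L⁆ ≤ O[{2}ᶜ](H)) : Y ≤ O[{2}ᶜ](H) := by
  have n := O_norm {2}ᶜ H
  have pA := h.ab.pig Nat.prime_two
  have h6 : ∀ L', CompIn L' (H ÷ O[{2}ᶜ](H)) → ¬ A ÷ O[{2}ᶜ](H) ≤ C[L'] → Y ÷ O[{2}ᶜ](H) ≤ C[L'] := fun L' hL e => by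
    obtain ⟨L, c, rfl⟩ := cp_pre hL
    exact (c.cent_iff h1).2 ((commC _ _).le.trans (h5 L c (mt (c.cent_iff h.le).2 e)))
  have c := (quo_cent_iff (h1.trans n) (h.le.trans n)).1
    (cent_symm ((h.lq k p).cA (im_mono h1) (h2.im _) (im_norm h3) h6))
  refine (quo_bot_iff (h1.trans n)).1 ((h.lq k p).lc2 ?_ h6)
  rw [← im_IC' (h.le.trans n) n ((quo_ker _).le.trans (O_le _ _)) (by rw [quo_ker]; exact pA.coprime (O_pig _ _))
    (.inl pA.sol), inf_comm]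
  exact ((quo_le_iff (h1.trans n) ((O_le _ _).trans (inf_le_right.trans n))).2
    ((cop_cent_prod h3 (pA.coprime h2) (.inl pA.sol)).sup.ge.trans (sup_le (c.trans le_sup_right)
      (h4.trans le_sup_left)))).trans (im_O_le _ _)

omit h k p in
theorem rule' (hL : Cp H L) (ha : a ∈ H) (pa : PiE {2} a) (h1 : ⁅L, zpowers a⁆ ≤ O[{2}ᶜ](H)) :
    ⁅O[{2}ᶜ](H ⊓ C1[a]), L⁆ ≤ O[{2}ᶜ](H) := by
  have n := O_norm {2}ᶜ H
  have pA := pig_zpowers.2 pa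
  have l := zpowers_le.2 ha
  rw [← C_zpowers, ← quo_cent_iff ((O_le _ _).trans (inf_le_left.trans n)) (hL.le.trans n)]
  refine (im_O_le _ _).trans ?_
  rw [im_IC' (l.trans n) n ((quo_ker _).le.trans (O_le _ _)) (by rw [quo_ker]; exact pA.coprime (O_pig _ _))
    (.inl pA.sol)]
  exact comp_cent hL.comp (le_inf hL.comp.le (cent_symm ((hL.cent_iff l).2 h1))) inf_le_left

theorem loc' (h1 : Y ≤ H) (h2 : PiG {2}ᶜ Y) (h3 : A ≤ N[Y]) (hU : U ≤ A) (hW : W ≤ A)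
    (h4 : ∀ L, Cp H L → ⁅L, U⁆ ≤ O[{2}ᶜ](H) ∨ ⁅L, W⁆ ≤ O[{2}ᶜ](H)) : ⁅⁅Y, U⁆, W⁆ ≤ O[{2}ᶜ](H) := by
  have n := O_norm {2}ᶜ H
  have u := (hU.trans h.le).trans n
  have w := (hW.trans h.le).trans n
  have y := h1.trans n
  rw [← quo_bot_iff (comm_le (comm_le y u) w), im_comm (comm_le y u) w, im_comm y u]
  refine (h.lq k p).loc (im_mono h1) (h2.im _) (im_norm h3) (im_mono hU) (im_mono hW) fun L' hL => ?_
  obtain ⟨L, c, rfl⟩ := cp_pre hL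
  exact (h4 L c).imp (c.cent_iff (hU.trans h.le)).2 (c.cent_iff (hW.trans h.le)).2

end Lx

end Cfsg.Agent.GF
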