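import Cfsg.Agent.GF.LocB

/-! # One local subgroup: basic facts on `Cp`, and `A` normalises every component -/

set_option autoImplicit false
set_option linter.unusedVariables false
set_option linter.unusedSectionVars false

namespace Cfsg.Agent.GF
open Cfsg Cfsg.Agent.BG Subgroup PHom
open Cfsg.Agent.Comp (QS CompIn)
open Cfsg.Agent.S3F (SCl NC NC_le)

universe u

variable {G : Type u} [Group G] [Finite G]
  {A B D H I K L M P Q R S T U V W X Y Z : Subgroup G} {a b c d g s t x y z : G} {n : ℕ}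

theorem compIn_im {G' G'' : Type u} [Group G'] [Group G''] {φ : PHom G G'} {ψ : PHom G G''} (h1 : H ≤ φ.dom)
    (h2 : H ≤ ψ.dom) (k : H ⊓ φ.ker ≤ ψ.ker) (l : L ≤ H) (h : CompIn (φ.im L) (φ.im H)) (ne : ψ.im L ≠ ⊥) :
    CompIn (ψ.im L) (ψ.im H) := by
  have e : (res h1).ker ≤ ((ψ.im H).subtype.comp (res h2)).ker := by
    rw [res_ker]; exact fun x hx => (res_coe h2 x).trans (mem_ker.1 (k ⟨x.2, hx⟩)).2
  set F := (res h1).liftOfSurjective (res_surj h1) ⟨_, e⟩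
  have m : ∀ X ≤ H, ((φ.im X).subgroupOf (φ.im H)).map F = ψ.im X := fun X hX => by
    refine le_antisymm ?_ fun y hy => ?_
    · rintro _ ⟨y, hy, rfl⟩
      obtain ⟨x, hx, e1⟩ := (mem_im' (hX.trans h1)).1 hy
      obtain rfl : res h1 ⟨x, hX hx⟩ = y := Subtype.ext ((res_coe h1 _).trans e1)
      simpa [F, res_coe] using app_mem_im hx (h2 (hX hx))
    · obtain ⟨x, hx, rfl⟩ := (mem_im' (hX.trans h2)).1 hy
      exact ⟨res h1 ⟨x, hX hx⟩, mem_subgroupOf.2 (res_coe h1 _ ▸ app_mem_im hx (h1 (hX hx))), by simp [F, res_coe]⟩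
  have := (Comp.compIn_top.2 (Comp.compIn_iff.1 h).2).map_of_ne_bot F (m L l ▸ ne)
  rwa [← subgroupOf_self, m L l, m H le_rfl] at this

theorem Cp.cj' (h : Cp H L) (g : G) : Cp (cj g H) (cj g L) := by
  refine ⟨cj_O g _ H ▸ cj_mono g h.ge, cj_mono g h.le, ?_⟩
  have n := O_norm {2}ᶜ H
  have e : ∀ X, ((quo O[{2}ᶜ](cj g H)).comp (tot (MulAut.conj g).toMonoidHom)).im X = cj g X ÷ O[{2}ᶜ](cj g H) :=
    fun X => by rw [comp_im, tot_im]; rfl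
  rw [← e, ← e]
  refine compIn_im n ?_ ?_ h.le h.comp ?_
  · rw [comp_dom, tot_pre, ← map_le_iff_le_comap]; exact O_norm _ _
  · rw [comp_ker, tot_pre, quo_ker, quo_ker, ← map_le_iff_le_comap, ← cj_O]; exact cj_mono g inf_le_right
  · rw [e, Ne, quo_bot_iff ((cj_mono g h.le).trans (O_norm _ _)), ← cj_O, cj_le_cj, ← quo_bot_iff (h.le.trans n)]
    exact h.comp.qs.ne_bot

theorem Cp.comm' (h : Cp H L) (h' : Cp H M) (ne : L ≠ M) : ⁅L, M⁆ ≤ O[{2}ᶜ](H) :=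
  have n := O_norm {2}ᶜ H
  (h.cent_iff h'.le).1 (comm_eq_bot'.1 ((h.comp.eq_or_comm h'.comp).resolve_left fun e => ne
    (im_inj (φ := quo _) (h.le.trans n) (h'.le.trans n) ((quo_ker _).le.trans h.ge) ((quo_ker _).le.trans h'.ge) e)))

theorem Cp.norm_of (h : Cp H L) (l : X ≤ H) (h1 : X ÷ O[{2}ᶜ](H) ≤ N[L ÷ O[{2}ᶜ](H)]) : X ≤ N[L] :=
  norm_of_im (φ := quo _) (l.trans (O_norm _ _)) (h.le.trans (O_norm _ _)) ((quo_ker _).le.trans h.ge) h1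

theorem Cp.norm_of_cent' (h : Cp H L) (hx : x ∈ H) (y1 : y ∈ L) (y2 : ¬ ⁅L, zpowers y⁆ ≤ O[{2}ᶜ](H))
    (c : x ∈ C1[y]) : x ∈ N[L] := by
  have n := O_norm {2}ᶜ H
  have ny := n (h.le y1)
  rw [← h.cent_iff (zpowers_le.2 (h.le y1)), im_zpowers (φ := quo _) ny, zpowers_le] at y2
  refine h.norm_of (zpowers_le.2 hx) ?_ (mem_zpowers x)
  rw [im_zpowers (φ := quo _) (n hx), zpowers_le]
  exact S3F.norm_of_cent h.comp (app_mem_im hx (n hx)) (app_mem_im y1 ny) y2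
    (im_C1 (φ := quo _) ny le_rfl (app_mem_im c (n hx)))

theorem Cp.bar_dom' (h : Cp H L) : H ⊓ N[L] ≤ (bar H L).dom :=
  (le_pre_iff (φ := quo _) (inf_le_left.trans (O_norm _ _))).2 (normC (im_norm inf_le_right))

theorem Cp.bar_ker' (h : Cp H L) (l : X ≤ H) : X ≤ (bar H L).ker ↔ ⁅L, X⁆ ≤ O[{2}ᶜ](H) := by
  rw [bar, comp_ker, quo_ker, le_pre_iff (φ := quo _) (l.trans (O_norm _ _)), h.cent_iff l]

theorem syl_cent_der (s : Syl 2 T L) (p : ⁅L, L⁆ = L) : T ⊓ C[L] ≤ ⁅T, T⁆ := fun x hx => by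
  obtain ⟨T, rfl⟩ := exists_lift s.le
  obtain ⟨⟨x, h1, rfl⟩, h2⟩ := hx
  rw [← map_commutator]
  refine mem_map_of_mem _ (PLoc.mem_commutator_of_central h1 (mem_center_iff.2 fun g => Subtype.ext
    (mem_C.1 h2 _ g.2)) ?_ ?_)
  · obtain ⟨y, hy, e⟩ : (x : G) ∈ (commutator L).map L.subtype := by rw [map_subtype_commutator, p]; exact x.2
    exact (Subtype.ext e : y = x) ▸ hy
  · have := s.coprime
    rwa [relIndex, subgroupOf, comap_map_eq_self_of_injective L.subtype_injective,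
      card_map_of_injective L.subtype_injective] at this

theorem Cp.ker_le' (h : Cp H L) (s : Syl 2 T L) : T ⊓ (bar H L).ker ≤ ⁅T, T⁆ ⊓ C[T] := by
  have n := (s.le.trans h.le).trans (O_norm {2}ᶜ H)
  have l := inf_le_left.trans (s.le.trans h.le) (a := T ⊓ (bar H L).ker)
  have k := (h.bar_ker' l).1 inf_le_right
  have b := s.pi.inf_bot (O_pig {2}ᶜ H)
  refine le_inf (fun x hx => ?_) (comm_eq_bot'.1 (eq_bot_iff.2 ((le_inf (comm_le le_rfl inf_le_left)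
    ((commS s.le le_rfl).trans k)).trans b.le)))
  have := (le_inf (im_mono inf_le_left) ((h.cent_iff l).2 k)).trans
    (syl_cent_der (s.im (φ := quo _) (h.le.trans (O_norm _ _))) h.comp.qs.perfect)
  rw [← im_comm (φ := quo _) n n, quo_le_iff (inf_le_left.trans n) (comm_le n n)] at this
  obtain ⟨p, hp, q, hq, rfl⟩ := (mem_sup_r (comm_le n n)).1 (this hx)
  rwa [mem_bot.1 (b.le ⟨by simpa using mul_mem (inv_mem (comm_le le_rfl le_rfl hp)) (mem_inf.1 hx).1, hq⟩), mul_one]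

theorem cj_NC (g : G) (H A : Subgroup G) : cj g (NC H A) ≤ NC (cj g H) (cj g A) :=
  cj_le_iff.2 (NC_le fun k hk => cj_le_iff.1 (by
    simpa [← cj_mul] using S3F.cj_le_NC (V := cj g A) (mem_cj_conj.2 hk : g * k * g⁻¹ ∈ cj g H)))

theorem Pr.cj' (h : Pr A H L B D X) (hg : g ∈ N[A]) :
    Pr A (cj g H) (cj g L) (cj g B) (cj g D) (cj g X) := by
  have e := cj_of_mem_N hg
  refine ⟨h.cp.cj' g, fun x => ?_, cj_mono g h.XL, cj_C g B ▸ cj_mono g h.XC, e ▸ cj_N g A ▸ cj_mono g h.XN, ?_,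
    h.odd.cj g, by rw [h.eqD, cj_comm, e], ?_, (card_cj g D).symm ▸ h.four, by rw [← cj_inf, h.inf, cj_bot],
    by rw [← cj_sup, h.sup, e], h.sh.imp (fun a => ?_) fun ⟨⟨t, t1, t2, t3, c, c1, c2, c3⟩, a⟩ =>
      ⟨⟨g * t * g⁻¹, ?_, ?_, ?_, g * c * g⁻¹, conj_mem hg c1, mt mem_cj_conj.1 c2, cj_C1 g c ▸ mem_cj_conj.2 c3⟩, ?_⟩⟩
  · obtain ⟨x, rfl⟩ : ∃ y, g * y * g⁻¹ = x := ⟨g⁻¹ * x * g, by group⟩
    rw [mem_cj_conj, h.memB, ← cj_zpowers, ← cj_comm, ← cj_O, cj_le_cj, ← mem_cj_conj (g := g), e]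
  · simpa only [cj_inf, cj_C, e] using (cj_mono g h.XK).trans (cj_NC g _ _)
  · rintro _ ⟨x, x1, rfl⟩ x2 _ ⟨y, y1, rfl⟩ y2
    obtain ⟨d, d1, rfl⟩ := h.tr x x1 (fun e => x2 (by simp [e])) y y1 (fun e => y2 (by simp [e]))
    exact ⟨g * d * g⁻¹, mem_cj_conj.2 d1, by simp [mul_assoc]⟩
  · simpa only [cj_inf, cj_N, e] using cj_mono g a
  · simpa only [cj_inf, cj_N, e] using (mem_cj_conj (g := g)).2 t1
  · exact pie_conj.2 t2
  · rw [← e, ← cj_C, mem_cj_conj]; exact t3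
  · intro u hu pu
    obtain ⟨u, rfl⟩ : ∃ y, g * y * g⁻¹ = u := ⟨g⁻¹ * u * g, by group⟩
    rw [← e, ← cj_N, ← cj_N, ← cj_inf, ← cj_inf, mem_cj_conj] at hu
    rw [← e, ← cj_zpowers, ← cj_comm, cj_le_cj]
    exact a u hu (pie_conj.1 pu)

theorem norm_comp (ab : Abelem 2 A) (le : A ≤ H) (sc : SCl H A) (hL : CompIn L H) : A ≤ N[L] := fun a ha => by
  obtain ⟨R, s, l⟩ := syl_superset Nat.prime_two le (ab.pig Nat.prime_two)
  have nR := sc.norm s.le s.pi l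
  refine mem_N_iff_cj.2 (((hL.conj (normG H (le ha))).eq_or_comm hL).resolve_right fun e => ?_)
  have c : ∀ {x}, x ∈ L → a * x * a⁻¹ ∈ C[L] := fun hx => comm_eq_bot.1 e (mem_cj_conj.2 hx)
  have n := normC (normG L)
  have s1 := S3F.syl_comp s hL
  have s2 := s1.im (φ := quo C[L]) n
  have k : L ÷ C[L] ⊓ N[(R ⊓ L) ÷ C[L]] ≤ C[(R ⊓ L) ÷ C[L]] := by
    refine (S3F.im_N_syl (φ := quo C[L]) s1 n).trans ((quo_cent_iff (inf_le_left.trans n) (inf_le_right.trans n)).2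
      (comm_le_iff.2 fun m hm x hx => ?_))
    have y1 : x * a * x⁻¹ * a⁻¹ ∈ A := mul_mem (conj_mem (nR ⟨s.le hx.1, normG R hx.1⟩) ha) (inv_mem ha)
    have y2 : m * (x * a * x⁻¹ * a⁻¹) * m⁻¹ = m * x * m⁻¹ * (a * x⁻¹ * a⁻¹) := by
      rw [mul_assoc (m * x), mem_C.1 (c (inv_mem hx.2)) _ (inv_mem (mem_inf.1 hm).1)]; group
    have y3 := sc R s.le s.pi l _ y1 m (hL.le hm.1) (y2 ▸ mul_mem (conj_mem hm.2 hx).1
      (conj_mem (normG R (l ha)) (inv_mem (mem_inf.1 hx).1)))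
    have y4 : m * x * m⁻¹ * x⁻¹ ∈ A := by
      convert mul_mem y3 (inv_mem y1) using 1
      rw [y2]; group
    have y5 := c (mul_mem (conj_mem (normG L hm.1) hx.2) (inv_mem (mem_inf.1 hx).2))
    rwa [mem_C_comm ab.abel ha y4, mul_inv_cancel_right] at y5
  have d := (burnside Nat.prime_two s2 k).sdprod s2
  exact (S3F.qs_im hL.qs n ((quo_ker C[L]).symm ▸ S3F.not_cent hL.qs)).not_solvable
    (d.sup ▸ (H8.sol_of_odd (O_pig _ _)).sup_l s2.pi.sol d.norm)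

theorem Lx.nA' (h : Lx.{u} n A H) (hL : Cp H L) : A ≤ N[L] :=
  hL.norm_of h.le (norm_comp (h.ab.im _) (im_mono h.le) (h.sc.im (O_norm _ _) h.le (h.ab.pig Nat.prime_two)) hL.comp)

theorem Lx.nK' (h : Lx.{u} n A H) (hL : Cp H L) : NC H A ≤ N[L] := NC_le fun g hg => by
  rw [cj_le_iff, cj_N]
  exact h.nA' (cj_of_mem (inv_mem hg) ▸ hL.cj' g⁻¹)

end Cfsg.Agent.GF
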